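import Groth.Agent.StalkDualLib.Ring
import Groth.Agent.KFlatLib.Stalk
import Groth.Agent.TildeDerLib.Affine
import Groth.Prelude.Def_DerSch

/-!
# Stalks of tilde as localizations, functorially
-/

set_option autoImplicit false
set_option linter.all false
set_option backward.isDefEq.respectTransparency false
set_option backward.isDefEq.respectTransparency.types false

universe u

open CategoryTheory CategoryTheory.Limits AlgebraicGeometry HomologicalComplex Opposite
open Groth.Agent

attribute [local instance] HasDerivedCategory.standard

noncomputable section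

namespace StalkDualLib

variable (R : CommRingCat.{u}) (p : Spec R)

/-- The local ring of the spectrum. -/
abbrev Osp : Type u := ((Spec R).presheaf.stalk p : CommRingCat.{u})

/-- From the ring to the local ring. -/
def tSt : R →+* Osp R p := (StructureSheaf.toStalk R p).hom

instance algebraOsp : Algebra R (Osp R p) := (tSt R p).toAlgebra

instance isLocalization_Osp : IsLocalization p.asIdeal.primeCompl (Osp R p) :=
  StructureSheaf.IsLocalization.to_stalk R p

/-- The unit of localization at a point, into the stalk of tilde. -/
def μ : 𝟭 (ModuleCat.{u} R) ⟶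
    (tilde.functor R ⋙ DerSch.stalkFunctor (Spec R) p) ⋙
      ModuleCat.restrictScalars.{u} (algebraMap R (Osp R p)) where
  app M := ModuleCat.ofHom (Y := ((tilde.functor R ⋙ DerSch.stalkFunctor (Spec R) p) ⋙
      ModuleCat.restrictScalars.{u} (algebraMap R (Osp R p))).obj M)
    { toFun := fun m => (tilde.toStalk M p).hom m
      map_add' := fun a b => map_add _ a b
      map_smul' := fun r m => map_smul (tilde.toStalk M p).hom r m }
  naturality M N f := by
    refine ModuleCat.hom_ext (LinearMap.ext fun m => ?_)
    refine Eq.trans ?_ (DerSch.stalkFunctor_map_germ (X := Spec R) p (tilde.map f) ⊤ trivial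
      (tilde.toOpen M ⊤ m)).symm
    exact congrArg ((tilde N).presheaf.germ ⊤ p trivial)
      (DFunLike.congr_fun (congrArg ModuleCat.Hom.hom (tilde.toOpen_map_app f ⊤)) m).symm

theorem isLocalizedModule_μ (M : ModuleCat.{u} R) :
    IsLocalizedModule p.asIdeal.primeCompl ((μ R p).app M).hom := by
  let e : ((ModuleCat.of R ((tilde M).presheaf.stalk p)) : Type u) ≃ₗ[R]
      (((tilde.functor R ⋙ DerSch.stalkFunctor (Spec R) p) ⋙
        ModuleCat.restrictScalars.{u} (algebraMap R (Osp R p))).obj M : Type u) :=
    { AddEquiv.refl _ with map_smul' := fun r x => rfl }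
  exact IsLocalizedModule.of_linearEquiv p.asIdeal.primeCompl (tilde.toStalk M p).hom e

end StalkDualLib
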