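import Groth.Agent.StalkDualLib.Stalk
import Groth.Agent.RelFlatLib.Basic
import Groth.Agent.BidualSchLib.Chart
import Groth.Agent.DualCxLib.Sch2

/-!
# Dualizing stalks and finite injective dimension give a dualizing complex
-/

set_option autoImplicit false
set_option linter.all false
set_option backward.isDefEq.respectTransparency false
set_option backward.isDefEq.respectTransparency.types false
set_option maxHeartbeats 1000000

universe u

open CategoryTheory CategoryTheory.Limits AlgebraicGeometry HomologicalComplex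
open Groth.Agent DTen
open Groth.Agent.DerLib Groth.Agent.DualCxLib

attribute [local instance] HasDerivedCategory.standard

noncomputable section

namespace StalkDualLib

variable (R : CommRingCat.{u}) [PreservesFiniteLimits (tilde.functor R)]

/-- The termwise tilde-sections adjunction. -/
abbrev adjCxT := KInjDerived.mapHomologicalComplexAdj (TildeDerLib.adjT R) (ComplexShape.up ℤ)

theorem quasiIso_counitCx (J : CochainComplex (Spec (CommRingCat.of R)).Modules ℤ) [J.IsKInjective]
    (hq : DCoh.IsQCohD (DerivedCategory.Q.obj J)) : QuasiIso ((adjCxT R).counit.app J) := by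
  let Y := (HomotopyCategory.quotient (Spec (CommRingCat.of R)).Modules (ComplexShape.up ℤ)).obj J
  let e := (DerivedCategory.quotientCompQhIso (Spec (CommRingCat.of R)).Modules).app J
  haveI := KInjDerived.isIso_app (TildeDerLib.RGamma R) (TildeDerLib.RGammaUnit R) KFlatLib.enoughKInj_modules J
  haveI : IsIso ((TildeDerLib.adjD R).counit.app (DerivedCategory.Qh.obj Y)) :=
    TildeDerLib.isIso_counit R (KFlatLib.isQCohD_iso e.symm hq)
  haveI := KInjDerived.isRightDerived_comp (G := tilde.functor R) (TildeDerLib.RGamma R) (TildeDerLib.RGammaUnit R)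
    KFlatLib.enoughKInj_modules
  have key := (KInjDerived.mapHomotopyCategoryAdj (TildeDerLib.adjT R) (ComplexShape.up ℤ)).derivedε_fac_app
    (HomotopyCategory.quasiIso (Spec (CommRingCat.of R)).Modules (ComplexShape.up ℤ))
    (tilde.functor R).mapDerivedCategoryFactorsh.hom (TildeDerLib.RGammaUnit R) Y
  haveI hi : IsIso (DerivedCategory.Qh.map
      ((KInjDerived.mapHomotopyCategoryAdj (TildeDerLib.adjT R) (ComplexShape.up ℤ)).counit.app Y)) :=
    haveI hd : IsIso (((KInjDerived.mapHomotopyCategoryAdj (TildeDerLib.adjT R) (ComplexShape.up ℤ)).derivedε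
        (HomotopyCategory.quasiIso (Spec (CommRingCat.of R)).Modules (ComplexShape.up ℤ))
        (tilde.functor R).mapDerivedCategoryFactorsh.hom (TildeDerLib.RGammaUnit R)).app (DerivedCategory.Qh.obj Y)) :=
      ‹IsIso ((TildeDerLib.adjD R).counit.app (DerivedCategory.Qh.obj Y))›
    haveI hb : IsIso ((tilde.functor R).mapDerivedCategory.map ((TildeDerLib.RGammaUnit R).app Y)) :=
      Functor.map_isIso _ _
    @IsIso.of_isIso_fac_left _ _ _ _ _ _ _ _ inferInstance (@IsIso.comp_isIso _ _ _ _ _ _ _ hb hd) key.symm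
  rw [← HomologicalComplex.mem_quasiIso_iff, ← HomotopyCategory.quotient_map_mem_quasiIso_iff,
    ← DerivedCategory.isIso_Qh_map_iff]
  exact hi

instance algebraOspA {A : Type u} [CommRing A] (p : Spec (CommRingCat.of A)) :
    Algebra A (Osp (CommRingCat.of A) p) := algebraOsp (CommRingCat.of A) p

instance isLocalization_OspA {A : Type u} [CommRing A] (p : Spec (CommRingCat.of A)) :
    IsLocalization p.asIdeal.primeCompl (Osp (CommRingCat.of A) p) :=
  isLocalization_Osp (CommRingCat.of A) p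

variable {X : Scheme.{u}}
  [∀ (U : Scheme.{u}) (j : U ⟶ X) [IsOpenImmersion j], PreservesFiniteLimits (Scheme.Modules.restrictFunctor j)]
  [∀ (R : CommRingCat.{u}), PreservesFiniteLimits (tilde.functor R)]
  {A : Type u} [CommRing A] [IsNoetherianRing A] (j : Spec (CommRingCat.of A) ⟶ X) [IsOpenImmersion j]
  (I : CochainComplex X.Modules ℤ) [I.IsKInjective]

theorem exists_chart {a b : ℤ} (hb : ∀ i : ℤ, (i < a ∨ b < i) → IsZero (I.X i))
    (hcoh : ∀ i : ℤ, Coh.IsCoh (DCoh.HD (DCoh.toD X I) i))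
    (hst : ∀ x : X, Dual.IsDualizing (X.presheaf.stalk ((𝟙 X : X ⟶ X).base x))
      (DRing.toD ((DerSch.stalkCxOver (𝟙 X) x).obj I))) :
    ∃ ω : Dual.D A, Dual.IsDualizing A ω ∧
      Nonempty ((DCoh.restrictD j).obj (DCoh.toD X I) ≅ (DCoh.tildeD (CommRingCat.of A)).obj ω) := by
  let T := tilde.functor (CommRingCat.of A)
  let J : CochainComplex (Spec (CommRingCat.of A)).Modules ℤ := (BidualSchLib.rJ j).obj I
  haveI : J.IsKInjective := BidualSchLib.isKInjective_rJ j I
  let eJ : (DCoh.restrictD j).obj (DCoh.toD X I) ≅ DerivedCategory.Q.obj J :=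
    (Scheme.Modules.restrictFunctor j).mapDerivedCategoryFactors.app I
  have hJcoh : ∀ n, Coh.IsCoh (DCoh.HD (DerivedCategory.Q.obj J) n) := fun n => by
    haveI := (hcoh n).1
    refine QCohLib.isCoh_of_iso ((DerivedCategory.homologyFunctor _ n).mapIso eJ.symm ≪≫
      DCohRestrLib.restrictHDIso j (DCoh.toD X I) n ≪≫
      (Scheme.Modules.restrictFunctorIsoPullback j).app (DCoh.HD (DCoh.toD X I) n)).symm ?_
    exact ⟨KFlatLib.isQCoh_pullback j _, ConsLib.isFT_pullback j _ (hcoh n).2⟩
  haveI := TildeDerLib.additive_gammaF (CommRingCat.of A)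
  let P : DRing.Cx A := ((TildeDerLib.gammaF (CommRingCat.of A)).mapHomologicalComplex _).obj J
  let c : (T.mapHomologicalComplex _).obj P ⟶ J := (adjCxT (CommRingCat.of A)).counit.app J
  haveI : QuasiIso c := quasiIso_counitCx (CommRingCat.of A) J fun n => (hJcoh n).1
  let ω : Dual.D A := DerivedCategory.Q.obj P
  let eω : (DCoh.tildeD (CommRingCat.of A)).obj ω ≅ DerivedCategory.Q.obj J :=
    T.mapDerivedCategoryFactors.app P ≪≫ asIso (DerivedCategory.Q.map c)
  have hfin : ∀ i, Module.Finite A (Dual.HD A ω i) := fun i =>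
    BidualSchLib.finite_of_isCoh_tilde (A := A)
      (QCohLib.isCoh_of_iso (((DerivedCategory.homologyFunctor _ i).mapIso eω.symm) ≪≫
        TildeDerLib.tildeHIso (CommRingCat.of A) i ω) (hJcoh i))
  have hext : ∀ (Q : Ideal A) (i : ℤ), (i < a ∨ b < i) → Subsingleton (Dual.inD A (A ⧸ Q) ⟶ ω⟦i⟧) := fun Q i hi => by
    obtain ⟨_, _, -⟩ := Groth.Agent.S0997.result (CommRingCat.of A)
    let N : ModuleCat.{u} A := ModuleCat.of A (A ⧸ Q)
    let C := (HomologicalComplex.single (ModuleCat.{u} A) (ComplexShape.up ℤ) 0).obj N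
    let C' := (T.mapHomologicalComplex (ComplexShape.up ℤ)).obj C
    let s : (DCoh.tildeD (CommRingCat.of A)).obj (Dual.inD A (A ⧸ Q)) ≅ DerivedCategory.Q.obj C' :=
      (DCoh.tildeD (CommRingCat.of A)).mapIso ((DerivedCategory.singleFunctorIsoCompQ (ModuleCat.{u} A) 0).app N) ≪≫
        T.mapDerivedCategoryFactors.app C
    let t : (DCoh.tildeD (CommRingCat.of A)).obj (ω⟦i⟧) ≅ DerivedCategory.Q.obj (J⟦i⟧) :=
      ((DCoh.tildeD (CommRingCat.of A)).commShiftIso i).app ω ≪≫ (shiftFunctor _ i).mapIso eω ≪≫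
        ((DerivedCategory.Q.commShiftIso i).app J).symm
    haveI : (J⟦i⟧).IsKInjective := inferInstance
    refine subsingleton_of_forall_eq 0 fun f => (DCoh.tildeD (CommRingCat.of A)).map_injective ?_
    obtain ⟨g, hg⟩ := KInjUse.Q_map_surjective C' (J⟦i⟧) (s.inv ≫ (DCoh.tildeD (CommRingCat.of A)).map f ≫ t.hom)
    have h0 : g = 0 := HomologicalComplex.hom_ext _ _ fun n => by
      rcases eq_or_ne n 0 with rfl | hn
      · refine IsZero.eq_of_tgt ?_ _ _
        exact IsZero.of_iso ((Scheme.Modules.restrictFunctor j).map_isZero (hb i hi))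
          (HomologicalComplex.XIsoOfEq J (show (0 : ℤ) + i = i by omega))
      · exact IsZero.eq_of_src (T.map_isZero (HomologicalComplex.isZero_single_obj_X _ _ _ _ hn)) _ _
    rw [h0, Functor.map_zero] at hg
    rw [Functor.map_zero, ← cancel_epi s.inv, ← cancel_mono t.hom, comp_zero, zero_comp, Category.assoc]
    exact hg.symm
  refine ⟨ω, ?_, ⟨eJ ≪≫ eω.symm⟩⟩
  have H : ∀ p : PrimeSpectrum A, ∃ (Z : Dual.D (Osp (CommRingCat.of A) p))
      (η : ω ⟶ (DRing.restrictD (algebraMap A (Osp (CommRingCat.of A) p))).obj Z),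
      IsUniv (algebraMap A (Osp (CommRingCat.of A) p)) η ∧ IsLocH (algebraMap A (Osp (CommRingCat.of A) p)) p.asIdeal.primeCompl η ∧
        Dual.IsDualizing (Osp (CommRingCat.of A) p) Z := fun p => by
    let F := DerSch.stalkFunctor (Spec (CommRingCat.of A)) p
    let Z0 : DRing.Cx (Osp (CommRingCat.of A) p) := (F.mapHomologicalComplex _).obj J
    haveI : PreservesFiniteLimits (T ⋙ F) := comp_preservesFiniteLimits _ _
    haveI : PreservesFiniteColimits (T ⋙ F) := comp_preservesFiniteColimits _ _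
    let h1 : P ⟶ (DTen.resCx (algebraMap A (Osp (CommRingCat.of A) p))).obj (((T ⋙ F).mapHomologicalComplex _).obj P) :=
      (NatTrans.mapHomologicalComplex (μ (CommRingCat.of A) p) _).app P
    let q : ((T ⋙ F).mapHomologicalComplex _).obj P ⟶ Z0 := (F.mapHomologicalComplex _).map c
    haveI : QuasiIso q := inferInstanceAs (QuasiIso ((F.mapHomologicalComplex _).map c))
    let h := h1 ≫ (DTen.resCx (algebraMap A (Osp (CommRingCat.of A) p))).map q
    have hl : IsLocH (algebraMap A (Osp (CommRingCat.of A) p)) p.asIdeal.primeCompl (ηOf h) :=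
      isLocH_ηOf_comp p.asIdeal.primeCompl h1 q
        (isLocH_of_natTrans p.asIdeal.primeCompl (T ⋙ F) (μ (CommRingCat.of A) p) (isLocalizedModule_μ (CommRingCat.of A) p) P)
    refine ⟨DerivedCategory.Q.obj Z0, ηOf h, isUniv_of_isLocH p.asIdeal.primeCompl h hl, hl, ?_⟩
    let σ := ((j ≫ 𝟙 X).stalkMap p).hom
    have hσ : Function.Bijective σ := ConcreteCategory.bijective_of_isIso ((j ≫ 𝟙 X).stalkMap p)
    refine isDualizing_of_resCx σ hσ Z0 ?_
    exact isDualizing_of_iso (DerivedCategory.Q.mapIso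
      ((NatIso.mapHomologicalComplex (RelFlatLib.stalkOverRestrict (𝟙 X) j p) (ComplexShape.up ℤ)).app I)).symm
      (hst (j p))
  choose Z η hu hl hZ using H
  exact isDualizing_of_local covers_atPrime hu hl hfin hZ hext

omit [I.IsKInjective] in
theorem main [IsNoetherian X] [∀ (U V : Scheme.{u}) (j : U ⟶ V) [IsOpenImmersion j], PreservesFiniteLimits (Scheme.Modules.restrictFunctor j)]
    (hIinj : ∀ i : ℤ, Injective (I.X i)) (hIbdd : ∃ a b : ℤ, ∀ i : ℤ, (i < a ∨ b < i) → IsZero (I.X i))
    (hcoh : ∀ i : ℤ, Coh.IsCoh (DCoh.HD (DCoh.toD X I) i))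
    (hst : ∀ x : X, Dual.IsDualizing (X.presheaf.stalk ((𝟙 X : X ⟶ X).base x))
      (DRing.toD ((DerSch.stalkCxOver (𝟙 X) x).obj I))) :
    Dual2.IsDualizingSch X (DCoh.toD X I) := by
  obtain ⟨a, b, hab⟩ := hIbdd
  haveI : I.IsStrictlyGE a := (CochainComplex.isStrictlyGE_iff _ a).2 fun n hn => hab n (Or.inl hn)
  haveI := hIinj
  haveI : I.IsKInjective := CochainComplex.isKInjective_of_injective _ a
  intro B _ j' _
  haveI : IsLocallyNoetherian (Spec (CommRingCat.of B)) := isLocallyNoetherian_of_isOpenImmersion j'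
  haveI : IsNoetherianRing B := (isLocallyNoetherian_Spec (R := CommRingCat.of B)).1 inferInstance
  exact exists_chart j' I hab hcoh hst

end StalkDualLib
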