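import Groth.Agent.DualCxLib.LocGlobal
import Groth.Agent.DualCxLib.Chart2

/-!
# Localizations of complexes given termwise
-/

set_option autoImplicit false
set_option linter.all false
set_option backward.isDefEq.respectTransparency false
set_option backward.isDefEq.respectTransparency.types false

universe u

open CategoryTheory CategoryTheory.Limits HomologicalComplex
open Groth.Agent DTen
open Groth.Agent.DualCxLib
open DTenLib.Point (hH sg)

attribute [local instance] HasDerivedCategory.standard

noncomputable section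

namespace StalkDualLib

variable {A S : Type u} [CommRing A] [CommRing S] [Algebra A S] (M : Submonoid A) [IsLocalization M S]

local notation "φ" => algebraMap A S

theorem bijective_of_comp {N N₁ N₂ : Type u} [AddCommGroup N] [AddCommGroup N₁] [AddCommGroup N₂]
    [Module A N] [Module A N₁] [Module A N₂] (f₁ : N →ₗ[A] N₁) (f₂ : N →ₗ[A] N₂)
    [IsLocalizedModule M f₁] [IsLocalizedModule M f₂] (g : N₁ →ₗ[A] N₂) (hg : g.comp f₁ = f₂) :
    Function.Bijective g := by
  have h : g = (IsLocalizedModule.linearEquiv M f₁ f₂).toLinearMap :=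
    IsLocalizedModule.linearMap_ext M f₁ f₂ (by
      rw [hg]
      exact LinearMap.ext fun x => (IsLocalizedModule.linearEquiv_apply M f₁ f₂ x).symm)
  rw [h]
  exact (IsLocalizedModule.linearEquiv M f₁ f₂).bijective

/-- The map to a complex of `S`-modules given by a cochain map. -/
def ηOf {P : DRing.Cx A} {Z : DRing.Cx S} (h : P ⟶ (resCx φ).obj Z) :
    DerivedCategory.Q.obj P ⟶ (DRing.restrictD φ).obj (DerivedCategory.Q.obj Z) :=
  DerivedCategory.Q.map h ≫ (resFactors φ).inv.app Z

include M in
/-- A localization of cohomology is universal. -/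
theorem isUniv_of_isLocH {P : DRing.Cx A} {Z : DRing.Cx S} (h : P ⟶ (resCx φ).obj Z)
    (hl : IsLocH φ M (ηOf h)) : IsUniv φ (ηOf h) := by
  let g := DTenLib.adjCx φ h
  have h1 : γ φ P ≫ (DRing.restrictD φ).map (DerivedCategory.Q.map g) = ηOf h := by
    rw [γ_comp, DTenLib.unit_adjCx]
    rfl
  haveI : IsIso ((DRing.restrictD φ).map (DerivedCategory.Q.map g)) := by
    rw [DerivedCategory.isIso_iff]
    intro i
    rw [ConcreteCategory.isIso_iff_bijective]
    haveI := isLocH_γ (S := S) M P i
    haveI := hl i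
    refine bijective_of_comp M ((hH A i).map (γ φ P)).hom ((hH A i).map (ηOf h)).hom _ ?_
    rw [← ModuleCat.hom_comp, ← Functor.map_comp, h1]
  haveI : IsIso (DerivedCategory.Q.map g) := by
    haveI : IsIso (DerivedCategory.Q.map ((resCx φ).map g)) :=
      (NatIso.isIso_map_iff (resFactors φ) g).1
        (inferInstanceAs (IsIso ((DRing.restrictD φ).map (DerivedCategory.Q.map g))))
    haveI : QuasiIso ((resCx φ).map g) := (DerivedCategory.isIso_Q_map_iff_quasiIso _ _).1 inferInstance
    haveI : QuasiIso g :=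
      (quasiIso_map_iff_of_preservesHomology g (ModuleCat.restrictScalars.{u} φ)).1 inferInstance
    infer_instance
  have h2 := (isUniv_γ (S := S) M P).comp_iso (Iso.refl _) (asIso (DerivedCategory.Q.map g))
  rw [Iso.refl_hom, Category.id_comp, asIso_hom, h1] at h2
  exact h2

/-- An exact endofunctor with a localization map gives a localization of cohomology. -/
theorem isLocH_of_natTrans (H : ModuleCat.{u} A ⥤ ModuleCat.{u} S) [H.Additive]
    [PreservesFiniteLimits H] [PreservesFiniteColimits H]
    (η : 𝟭 (ModuleCat.{u} A) ⟶ H ⋙ ModuleCat.restrictScalars.{u} φ)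
    (hη : ∀ N, IsLocalizedModule M (η.app N).hom) (P : DRing.Cx A) :
    IsLocH φ M (ηOf (P := P) (Z := (H.mapHomologicalComplex _).obj P)
      ((NatTrans.mapHomologicalComplex η _).app P)) := by
  intro i
  let G := H ⋙ ModuleCat.restrictScalars.{u} φ
  haveI : G.Additive := inferInstance
  haveI : PreservesFiniteLimits G := comp_preservesFiniteLimits _ _
  haveI : PreservesFiniteColimits G := comp_preservesFiniteColimits _ _
  let Z : DRing.Cx S := (H.mapHomologicalComplex _).obj P
  let FF := DerivedCategory.homologyFunctorFactors (ModuleCat.{u} A) i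
  let e : (hH A i).obj (DerivedCategory.Q.obj P) ≅ (P.sc i).homology :=
    FF.app P ≪≫ ((P.sc i).mapHomologyIso (𝟭 _))
  let e' : (hH A i).obj ((DRing.restrictD φ).obj (DerivedCategory.Q.obj Z)) ≅
      G.obj (P.sc i).homology :=
    (hH A i).mapIso ((resFactors φ).app Z) ≪≫ FF.app _ ≪≫ (P.sc i).mapHomologyIso G
  let c : P ⟶ (resCx φ).obj Z := (NatTrans.mapHomologicalComplex η _).app P
  have h : (hH A i).map (ηOf c) = e.hom ≫ η.app (P.sc i).homology ≫ e'.inv := by
    rw [← Category.assoc, Iso.eq_comp_inv, NatTrans.app_homology η (P.sc i)]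
    show (hH A i).map (ηOf c) ≫ (hH A i).map ((resFactors φ).hom.app _) ≫ FF.hom.app _ ≫ _ =
      (FF.hom.app P ≫ _) ≫ _
    rw [← Category.assoc ((hH A i).map (ηOf c)), ← Functor.map_comp]
    have h1 : ηOf c ≫ (resFactors φ).hom.app Z = DerivedCategory.Q.map c :=
      (Category.assoc _ _ _).trans ((congrArg (DerivedCategory.Q.map c ≫ ·)
        ((resFactors φ).inv_hom_id_app Z)).trans (Category.comp_id _))
    rw [h1, ← Category.assoc, Category.assoc (FF.hom.app P)]
    refine Eq.trans ?_ (congrArg (FF.hom.app P ≫ ·) ((Iso.hom_inv_id_assoc _ _).symm))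
    refine Eq.trans ?_ (Category.assoc _ _ _)
    exact congrArg (· ≫ ((P.sc i).mapHomologyIso G).hom) (FF.hom.naturality c)
  show IsLocalizedModule M ((hH A i).map (ηOf c)).hom
  rw [h, ModuleCat.hom_comp, ModuleCat.hom_comp]
  haveI : IsLocalizedModule M (η.app (P.sc i).homology).hom := hη _
  haveI : IsLocalizedModule M (e'.inv.hom.comp (η.app (P.sc i).homology).hom) :=
    IsLocalizedModule.of_linearEquiv M _ e'.symm.toLinearEquiv
  exact IsLocalizedModule.of_linearEquiv_right M _ e.toLinearEquiv

theorem isLocH_ηOf_comp {P : DRing.Cx A} {Z Z' : DRing.Cx S} (h : P ⟶ (resCx φ).obj Z) (g : Z ⟶ Z')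
    [QuasiIso g] (hl : IsLocH φ M (ηOf h)) :
    IsLocH φ M (ηOf (h ≫ (resCx φ).map g)) := by
  haveI : IsIso (DerivedCategory.Q.map g) := inferInstance
  have h2 := hl.comp_iso (Iso.refl _) (asIso (DerivedCategory.Q.map g))
  rw [Iso.refl_hom, Category.id_comp, asIso_hom] at h2
  convert h2 using 1
  show DerivedCategory.Q.map (h ≫ (resCx φ).map g) ≫ _ =
    (DerivedCategory.Q.map h ≫ (resFactors φ).inv.app Z) ≫ _
  rw [Functor.map_comp, Category.assoc, Category.assoc]
  exact congrArg _ ((resFactors φ).inv.naturality g)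

/-- Transport along an isomorphism of rings. -/
theorem isDualizing_of_resCx {R T : Type u} [CommRing R] [CommRing T] (σ : R →+* T)
    (hσ : Function.Bijective σ) (Z : DRing.Cx T)
    (h : Dual.IsDualizing R (DerivedCategory.Q.obj ((resCx σ).obj Z))) :
    Dual.IsDualizing T (DerivedCategory.Q.obj Z) := by
  letI := σ.toAlgebra
  haveI := h.isNoetherianRing
  haveI : IsLocalization (⊥ : Submonoid R) R :=
    IsLocalization.self bot_le
  haveI : IsLocalization (⊥ : Submonoid R) T :=
    IsLocalization.isLocalization_of_algEquiv (⊥ : Submonoid R) (AlgEquiv.ofBijective (Algebra.ofId R T) hσ)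
  have h1 := isDualizing_loc (⊥ : Submonoid R) h (isUniv_γ (S := T) ⊥ ((resCx (algebraMap R T)).obj Z))
    (isLocH_γ (S := T) ⊥ ((resCx (algebraMap R T)).obj Z))
  haveI : (ModuleCat.restrictScalars.{u} (algebraMap R T)).IsEquivalence :=
    (ModuleCat.restrictScalarsEquivalenceOfRingEquiv (RingEquiv.ofBijective σ hσ)).isEquivalence_functor
  let adj := ModuleCat.extendRestrictScalarsAdj.{u, u, u} (algebraMap R T)
  haveI := adj.isEquivalence_left_of_isEquivalence_right
  let e : (ModuleCat.restrictScalars.{u} (algebraMap R T) ⋙ ModuleCat.extendScalars.{u, u, u} (algebraMap R T)) ≅ 𝟭 _ :=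
    asIso adj.counit
  exact isDualizing_of_iso (DerivedCategory.Q.mapIso ((NatIso.mapHomologicalComplex e (ComplexShape.up ℤ)).app Z)) h1

end StalkDualLib
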